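import Cfsg.Agent.H325.RIM.Surv
import Cfsg.Agent.S0252
import Cfsg.Agent.S0253
import Cfsg.Agent.S0254
import Cfsg.Agent.S0255
import Cfsg.Agent.S0256
import Cfsg.Agent.S0822
import Cfsg.Agent.S2034
import Cfsg.Agent.S2037
import Cfsg.Agent.S2038
import Cfsg.Agent.S2039
import Cfsg.Agent.S2041
import Cfsg.Agent.S2042
import Cfsg.Agent.S2044
import Cfsg.Agent.S2045
import Cfsg.Agent.S2047
import Cfsg.Agent.S2049
import Cfsg.Agent.S2050
import Cfsg.Agent.S2052
import Cfsg.Agent.S2054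
import Cfsg.Agent.S2055
import Cfsg.Agent.S2056
import Cfsg.Agent.S2057
import Cfsg.Agent.S2059
import Cfsg.Agent.S2092
import Cfsg.Agent.S2096
import Cfsg.Agent.S2097
import Cfsg.Agent.S2099
import Cfsg.Agent.S2100
import Cfsg.Agent.S2101
import Cfsg.Agent.S2103
import Cfsg.Agent.S2105
import Cfsg.Agent.S2106
import Cfsg.Agent.S2107
import Cfsg.Agent.S2108
import Cfsg.Agent.S2110
import Cfsg.Agent.S2111
import Cfsg.Agent.S2113
import Cfsg.Agent.S2114
import Cfsg.Agent.S2115

/-!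
# S4816: the known simple groups are not bad, or survivors (helper325)

`nb_or_surv` : from the rows `RowsNB`: a known simple group `S` of order divisible by the odd prime `p` satisfies
`NBall p S` or is a survivor; `absyl_of_surv` : the survivors have abelian Sylow `p`-subgroups;
`nball_of_not_absyl` : non-abelian Sylow `p`-subgroups; `kill_all`.
-/

set_option autoImplicit false
set_option linter.unusedSectionVars false

namespace Cfsg.Agent.H325.RIM

open Cfsg Cfsg.Agent.H665.RIM Cfsg.Agent.OrdDiv Cfsg.Agent.H436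

universe u v

variable {p : ℕ} {S : Type u} [Group S] [Finite S]

theorem NBRow.apply {g : Grp} (h : NBRow p g) (hg : IsNamed g S) (hd : p ∣ Nat.card S) : NBall.{u} p S := by
  obtain ⟨S', _, _, ⟨e⟩⟩ : ∃ (S' : Type) (_ : Group S') (_ : Finite S'), Nonempty (S' ≃* S) := by
    have hsm : Small.{0, u} S := Countable.toSmall.{0, u} S
    exact ⟨Shrink.{0, u} S, inferInstance, Finite.of_equiv S (equivShrink.{0, u} S), ⟨Shrink.mulEquiv⟩⟩
  exact NBall.congr e.symm (h S' (named_congr hg e) (by rwa [Nat.card_congr e.toEquiv]))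

theorem named_of {g g' : Grp} (hg : IsNamed g S) (hr : Real g' S) (hc : Cond g') (he : den g' * ordN g = num g') :
    IsNamed g' S :=
  IsNamed.mk' hr hc (by rw [hg.ord]; exact he)

theorem mem_of_dvd {N : ℕ} (hp : p.Prime) (l : List ℕ) (k : ℕ) (hl : ∀ x ∈ l, x.Prime) (hN : N ∣ l.prod ^ k)
    (hd : p ∣ N) : p ∈ l := by
  have h1 : p ∣ l.prod := hp.dvd_of_dvd_pow (hd.trans hN)
  obtain ⟨x, hx, hpx⟩ := (Prime.dvd_prod_iff hp.prime).1 h1
  rwa [(Nat.prime_dvd_prime_iff_eq hp (hl x hx)).1 hpx]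

/-! ### the coincidences -/

theorem psl25_of_alt5 (hg : IsNamed (.alt 5) S) : IsNamed (.psl 2 5) S := by
  have : Fact (Nat.Prime 5) := ⟨by norm_num⟩
  obtain ⟨e⟩ := hg.real
  obtain ⟨f⟩ := S0253.result (F := ZMod 5) (ZMod.card 5)
  exact named_of hg ⟨ZMod 5, inferInstance, inferInstance, ZMod.card 5, ⟨e.trans f.symm⟩⟩
    ⟨by norm_num, by norm_num, Nat.Prime.isPrimePow (by norm_num)⟩ (by decide +kernel)

theorem psl25_of_psl24 (hg : IsNamed (.psl 2 4) S) : IsNamed (.psl 2 5) S := by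
  have : Fact (Nat.Prime 5) := ⟨by norm_num⟩
  obtain ⟨F, _, _, hF, ⟨e⟩⟩ := hg.real
  obtain ⟨f⟩ := S0253.result (F := ZMod 5) (ZMod.card 5)
  obtain ⟨f'⟩ := S0252.result (F := F) hF
  exact named_of hg ⟨ZMod 5, inferInstance, inferInstance, ZMod.card 5, ⟨(e.trans f').trans f.symm⟩⟩
    ⟨by norm_num, by norm_num, Nat.Prime.isPrimePow (by norm_num)⟩ (by decide +kernel)

theorem alt6_of_psl29 (hg : IsNamed (.psl 2 9) S) : IsNamed (.alt 6) S := by
  obtain ⟨F, _, _, hF, ⟨e⟩⟩ := hg.real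
  obtain ⟨f⟩ := S0254.result (F := F) hF
  exact named_of hg ⟨e.trans f⟩ (by change 5 ≤ 6; norm_num) (by decide +kernel)

theorem psl29_of_alt6 (hg : IsNamed (.alt 6) S) : IsNamed (.psl 2 9) S := by
  have : Fact (Nat.Prime 3) := ⟨by norm_num⟩
  obtain ⟨e⟩ := hg.real
  have i1 : Fintype (GaloisField 3 2) := Fintype.ofFinite _
  have hF : Fintype.card (GaloisField 3 2) = 9 := by
    rw [← Nat.card_eq_fintype_card, GaloisField.card 3 2 (by norm_num)]
    norm_num
  obtain ⟨f⟩ := S0254.result (F := GaloisField 3 2) hF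
  refine named_of hg ⟨GaloisField 3 2, inferInstance, i1, hF, ⟨e.trans f.symm⟩⟩
    ⟨by norm_num, by norm_num, ?_⟩ (by decide +kernel)
  exact (isPrimePow_nat_iff 9).2 ⟨3, 2, by norm_num, by norm_num, by norm_num⟩

theorem psl27_of_psl32 (hg : IsNamed (.psl 3 2) S) : IsNamed (.psl 2 7) S := by
  have : Fact (Nat.Prime 7) := ⟨by norm_num⟩
  obtain ⟨F, _, _, hF, ⟨e⟩⟩ := hg.real
  obtain ⟨f⟩ := S0255.result (F := ZMod 7) (K := F) (ZMod.card 7) hF
  exact named_of hg ⟨ZMod 7, inferInstance, inferInstance, ZMod.card 7, ⟨e.trans f.symm⟩⟩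
    ⟨by norm_num, by norm_num, Nat.Prime.isPrimePow (by norm_num)⟩ (by decide +kernel)

theorem alt8_of_psl42 (hg : IsNamed (.psl 4 2) S) : IsNamed (.alt 8) S := by
  obtain ⟨F, _, _, hF, ⟨e⟩⟩ := hg.real
  obtain ⟨f⟩ := S0256.result (F := F) hF
  exact named_of hg ⟨e.trans f⟩ (by change 5 ≤ 8; norm_num) (by decide +kernel)

theorem psp23_of_psu42 (hg : IsNamed (.psu 4 2) S) : IsNamed (.psp 2 3) S := by
  have : Fact (Nat.Prime 3) := ⟨by norm_num⟩
  obtain ⟨F, _, _, hF, ⟨e⟩⟩ := hg.real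
  obtain ⟨f⟩ := S0822.result (F := F) (K := ZMod 3) (by rw [hF]; norm_num) (ZMod.card 3)
  exact named_of hg ⟨ZMod 3, inferInstance, inferInstance, ZMod.card 3, ⟨e.trans f⟩⟩
    ⟨by norm_num, by norm_num, Nat.Prime.isPrimePow (by norm_num)⟩ (by decide +kernel)

/-! ### the survivors have abelian Sylow subgroups -/

theorem absyl_psl2 {F : Type} [Field F] [Fintype F] (hp : p.Prime) (h2 : p ≠ 2) (hd : p ∣ Fintype.card F) :
    AbSyl p (Matrix.ProjectiveSpecialLinearGroup (Fin 2) F) := by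
  have : Fact p.Prime := ⟨hp⟩
  obtain ⟨r, hr⟩ := CharP.exists F
  have hrp : r.Prime := (CharP.char_is_prime_or_zero F r).resolve_right (CharP.char_ne_zero_of_finite F r)
  have : Fact r.Prime := ⟨hrp⟩
  obtain ⟨n, -, hn⟩ := FiniteField.card F r
  have h1 : p = r := (Nat.prime_dvd_prime_iff_eq hp hrp).1 (hp.dvd_of_dvd_pow (hn ▸ hd))
  subst h1
  have key := H545.LT.psl_two_abSyl (F := F) p p hp (by
    rintro (h | h)
    · exact h2 h
    · exact h2 ((Nat.prime_dvd_prime_iff_eq hp Nat.prime_two).1 (h.trans (Nat.gcd_dvd_left _ _))))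
  intro P hP a ha b hb
  obtain ⟨Q, hQ⟩ := hP.exists_le_sylow
  have h3 := (key Q).is_comm.comm ⟨a, hQ ha⟩ ⟨b, hQ hb⟩
  exact congrArg Subtype.val h3

theorem absyl_of_surv (hp : p.Prime) (h2 : p ≠ 2) (h : Surv p S) : AbSyl p S := by
  obtain ⟨g, hg, hs⟩ := h
  have key : ¬ p ^ 3 ∣ ordN g → AbSyl p S := fun h => absyl_of_not_dvd hp (by rw [hg.ord]; exact h)
  cases g with
  | psl n q =>
    rcases hs with ⟨rfl, h⟩ | ⟨rfl, rfl, h⟩
    · obtain ⟨F, _, _, rfl, ⟨e⟩⟩ := hg.real
      exact AbSyl.congr e (absyl_psl2 hp h2 h)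
    · apply key
      rcases h with rfl | rfl | rfl <;> decide +kernel
  | alt n =>
    apply key
    rcases hs with ⟨rfl, rfl⟩ | ⟨rfl, rfl | rfl⟩ | ⟨rfl, rfl⟩ <;> decide +kernel
  | psu n q =>
    apply key
    rcases hs with ⟨rfl, rfl, rfl | rfl⟩ | ⟨rfl, rfl, rfl | rfl | rfl⟩ <;> decide +kernel
  | psp m q =>
    apply key
    obtain ⟨rfl, rfl, rfl | rfl⟩ := hs <;> decide +kernel
  | oodd m q =>
    apply key
    obtain ⟨rfl, rfl, rfl | rfl | rfl⟩ := hs <;> decide +kernel
  | oplus m q =>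
    apply key
    obtain ⟨rfl, rfl, rfl | rfl⟩ := hs <;> decide +kernel
  | ominus m q =>
    apply key
    obtain ⟨rfl, rfl, rfl⟩ := hs
    decide +kernel
  | g2 q =>
    apply key
    rcases hs with ⟨rfl, rfl | rfl⟩ | ⟨rfl, rfl | rfl | rfl⟩ <;> decide +kernel
  | f4 q =>
    apply key
    obtain ⟨rfl, rfl | rfl | rfl | rfl⟩ := hs <;> decide +kernel
  | te6 q =>
    apply key
    obtain ⟨rfl, rfl | rfl | rfl | rfl | rfl | rfl⟩ := hs <;> decide +kernel
  | sz q =>
    apply key
    obtain ⟨rfl, rfl | rfl | rfl⟩ := hs <;> decide +kernel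
  | m12 => apply key; obtain rfl | rfl := hs <;> decide +kernel
  | m22 => apply key; obtain rfl | rfl | rfl | rfl := hs <;> decide +kernel
  | j2 => apply key; obtain rfl | rfl := hs <;> decide +kernel
  | j3 => apply key; obtain rfl | rfl | rfl := hs <;> decide +kernel
  | hs => apply key; obtain rfl | rfl | rfl := hs <;> decide +kernel
  | mcl => apply key; obtain rfl | rfl := hs <;> decide +kernel
  | suz => apply key; obtain rfl | rfl | rfl | rfl := hs <;> decide +kernel
  | ru => apply key; obtain rfl | rfl | rfl := hs <;> decide +kernel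
  | on => apply key; obtain rfl | rfl | rfl | rfl := hs <;> decide +kernel
  | co1 => apply key; obtain rfl | rfl | rfl | rfl := hs <;> decide +kernel
  | fi22 => apply key; obtain rfl | rfl | rfl | rfl := hs <;> decide +kernel
  | fi24 => apply key; obtain rfl | rfl | rfl | rfl | rfl | rfl := hs <;> decide +kernel
  | b => apply key; obtain rfl | rfl | rfl | rfl | rfl | rfl | rfl | rfl := hs <;> decide +kernel
  | _ => exact hs.elim

/-! ### the main case distinction -/

variable (R : RowsNB) (hp : p.Prime) (h2 : p ≠ 2)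

include R hp h2

theorem main_psl (n q : ℕ) (hg : IsNamed (.psl n q) S) (hd : p ∣ Nat.card S)
    (hex : (n, q) ∉ ({(2, 4), (2, 9), (3, 2), (3, 4), (4, 2)} : Set (ℕ × ℕ))) : NBall.{u} p S ∨ Surv p S := by
  by_cases hq : p ∣ q
  · rcases Nat.lt_or_ge 2 n with h | h
    · exact Or.inl ((R.own_psl p n q hp h2 hq h).apply hg hd)
    · have h3 : n = 2 := le_antisymm h hg.cond.1
      exact Or.inr ⟨_, hg, Or.inl ⟨h3, hq⟩⟩
  · exact Or.inl ((R.psl p n q hp h2 hq hex).apply hg hd)

theorem main_psp (m q : ℕ) (hg : IsNamed (.psp m q) S) (hd : p ∣ Nat.card S) : NBall.{u} p S ∨ Surv p S := by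
  by_cases hq : p ∣ q
  · exact Or.inl ((R.own_psp p m q hp h2 hq).apply hg hd)
  rcases Nat.even_or_odd q with he | ho
  · by_cases hex : m = 3 ∧ q = 2
    · obtain ⟨rfl, rfl⟩ := hex
      have h1 : p ∈ [2, 3, 5, 7] := mem_of_dvd hp _ 9 (by norm_num) (by decide +kernel) (hg.ord ▸ hd)
      simp only [List.mem_cons, List.not_mem_nil, or_false] at h1
      rcases h1 with rfl | rfl | h1
      · exact absurd rfl h2
      · exact Or.inl (R.sp62.apply hg hd)
      · exact Or.inr ⟨_, hg, rfl, rfl, h1⟩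
    · left
      obtain ⟨F, _, _, hF, e⟩ := hg.real
      have h1 := S2092.result hF m hg.cond.1 hg.cond.2.1 hex
      refine nball_of_dvd hp h1 e ?_
      have h3 : 1 ≤ q := hg.cond.2.2.pos
      have h4 : Nat.gcd 2 (q - 1) = 1 := by
        refine Nat.coprime_two_left.2 ?_
        obtain ⟨k, hk⟩ := he
        exact ⟨k - 1, by omega⟩
      rw [h4]
      exact one_dvd _
  · exact Or.inl ((R.psp p m q hp h2 hq ho).apply hg hd)

theorem main_alt (n : ℕ) (hg : IsNamed (.alt n) S) (hd : p ∣ Nat.card S) : NBall.{u} p S ∨ Surv p S := by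
  have hn : 5 ≤ n := hg.cond
  rcases Nat.lt_or_ge n 8 with h8 | h8
  · interval_cases n
    · exact main_psl R hp h2 2 5 (psl25_of_alt5 hg) hd (by simp)
    · have h1 : p ∈ [2, 3, 5] := mem_of_dvd hp _ 3 (by norm_num) (by decide +kernel) (hg.ord ▸ hd)
      simp only [List.mem_cons, List.not_mem_nil, or_false] at h1
      rcases h1 with rfl | rfl | rfl
      · exact absurd rfl h2
      · exact Or.inr ⟨_, psl29_of_alt6 hg, Or.inl ⟨rfl, by norm_num⟩⟩
      · exact Or.inr ⟨_, hg, Or.inl ⟨rfl, rfl⟩⟩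
    · have h1 : p ∈ [2, 3, 5, 7] := mem_of_dvd hp _ 3 (by norm_num) (by decide +kernel) (hg.ord ▸ hd)
      simp only [List.mem_cons, List.not_mem_nil, or_false] at h1
      rcases h1 with rfl | rfl | h1
      · exact absurd rfl h2
      · exact Or.inl (R.alt7.apply hg hd)
      · exact Or.inr ⟨_, hg, Or.inr (Or.inl ⟨rfl, h1⟩)⟩
  · by_cases h85 : n = 8 ∧ p = 5
    · exact Or.inr ⟨_, hg, Or.inr (Or.inr h85)⟩
    · exact Or.inl ((R.alt p n hp h2 h8 h85).apply hg hd)

theorem main_psu (n q : ℕ) (hg : IsNamed (.psu n q) S) (hd : p ∣ Nat.card S) : NBall.{u} p S ∨ Surv p S := by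
  by_cases hq : p ∣ q
  · exact Or.inl ((R.own_psu p n q hp h2 hq).apply hg hd)
  by_cases h1 : (n, q) ∈ ({(4, 2), (4, 3), (6, 2)} : Set (ℕ × ℕ))
  · simp only [Set.mem_insert_iff, Set.mem_singleton_iff, Prod.mk.injEq] at h1
    rcases h1 with ⟨rfl, rfl⟩ | ⟨rfl, rfl⟩ | ⟨rfl, rfl⟩
    · exact main_psp R hp h2 2 3 (psp23_of_psu42 hg) hd
    · have h1 : p ∈ [2, 3, 5, 7] := mem_of_dvd hp _ 7 (by norm_num) (by decide +kernel) (hg.ord ▸ hd)
      simp only [List.mem_cons, List.not_mem_nil, or_false] at h1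
      rcases h1 with rfl | rfl | h1
      · exact absurd rfl h2
      · exact absurd (dvd_refl 3) hq
      · exact Or.inr ⟨_, hg, Or.inl ⟨rfl, rfl, h1⟩⟩
    · have h1 : p ∈ [2, 3, 5, 7, 11] := mem_of_dvd hp _ 15 (by norm_num) (by decide +kernel) (hg.ord ▸ hd)
      simp only [List.mem_cons, List.not_mem_nil, or_false] at h1
      rcases h1 with rfl | rfl | h1
      · exact absurd rfl h2
      · exact Or.inl (R.u62.apply hg hd)
      · exact Or.inr ⟨_, hg, Or.inr ⟨rfl, rfl, h1⟩⟩
  · exact Or.inl ((R.psu p n q hp h2 hq h1).apply hg hd)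

theorem main_psl' (n q : ℕ) (hg : IsNamed (.psl n q) S) (hd : p ∣ Nat.card S) : NBall.{u} p S ∨ Surv p S := by
  by_cases h1 : (n, q) ∈ ({(2, 4), (2, 9), (3, 2), (3, 4), (4, 2)} : Set (ℕ × ℕ))
  · simp only [Set.mem_insert_iff, Set.mem_singleton_iff, Prod.mk.injEq] at h1
    rcases h1 with ⟨rfl, rfl⟩ | ⟨rfl, rfl⟩ | ⟨rfl, rfl⟩ | ⟨rfl, rfl⟩ | ⟨rfl, rfl⟩
    · exact main_psl R hp h2 2 5 (psl25_of_psl24 hg) hd (by simp)
    · exact main_alt R hp h2 6 (alt6_of_psl29 hg) hd
    · exact main_psl R hp h2 2 7 (psl27_of_psl32 hg) hd (by simp)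
    · have h1 : p ∈ [2, 3, 5, 7] := mem_of_dvd hp _ 6 (by norm_num) (by decide +kernel) (hg.ord ▸ hd)
      simp only [List.mem_cons, List.not_mem_nil, or_false] at h1
      rcases h1 with rfl | h1
      · exact absurd rfl h2
      · exact Or.inr ⟨_, hg, Or.inr ⟨rfl, rfl, h1⟩⟩
    · exact main_alt R hp h2 8 (alt8_of_psl42 hg) hd
  · exact main_psl R hp h2 n q hg hd h1

theorem main_oodd (m q : ℕ) (hg : IsNamed (.oodd m q) S) (hd : p ∣ Nat.card S) : NBall.{u} p S ∨ Surv p S := by
  by_cases hq : p ∣ q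
  · exact Or.inl ((R.own_oodd p m q hp h2 hq).apply hg hd)
  by_cases hex : m = 3 ∧ q = 3
  · obtain ⟨rfl, rfl⟩ := hex
    have h1 : p ∈ [2, 3, 5, 7, 13] := mem_of_dvd hp _ 9 (by norm_num) (by decide +kernel) (hg.ord ▸ hd)
    simp only [List.mem_cons, List.not_mem_nil, or_false] at h1
    rcases h1 with rfl | rfl | h1
    · exact absurd rfl h2
    · exact absurd (dvd_refl 3) hq
    · exact Or.inr ⟨_, hg, rfl, rfl, h1⟩
  · exact Or.inl ((R.oodd p m q hp h2 hq hex).apply hg hd)

theorem main_oplus (m q : ℕ) (hg : IsNamed (.oplus m q) S) (hd : p ∣ Nat.card S) : NBall.{u} p S ∨ Surv p S := by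
  by_cases hq : p ∣ q
  · exact Or.inl ((R.own_oplus p m q hp h2 hq).apply hg hd)
  rcases Nat.even_or_odd q with he | ho
  · by_cases hex : m = 4 ∧ q = 2
    · obtain ⟨rfl, rfl⟩ := hex
      have h1 : p ∈ [2, 3, 5, 7] := mem_of_dvd hp _ 12 (by norm_num) (by decide +kernel) (hg.ord ▸ hd)
      simp only [List.mem_cons, List.not_mem_nil, or_false] at h1
      rcases h1 with rfl | rfl | h1
      · exact absurd rfl h2
      · exact Or.inl (R.o8p.apply hg hd)
      · exact Or.inr ⟨_, hg, rfl, rfl, h1⟩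
    · left
      obtain ⟨F, _, _, hF, e⟩ := hg.real
      have hm : 4 ≤ m := hg.cond.1
      have h3 : 1 ≤ q := hg.cond.2.pos
      have h5 : Odd (q ^ m - 1) := by
        have h6 : Even (q ^ m) := he.pow_of_ne_zero (by omega)
        have h7 : 1 ≤ q ^ m := Nat.one_le_pow _ _ h3
        obtain ⟨k, hk⟩ := h6
        exact ⟨k - 1, by omega⟩
      rcases Nat.even_or_odd m with hme | hmo
      · have h1 := S2097.result hF m hm hme hex
        obtain ⟨e⟩ := e
        refine nball_of_mult h1 e fun k hk hkd => ?_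
        have h4 : Nat.gcd 2 (q ^ m - 1) = 1 := Nat.coprime_two_left.2 h5
        rw [h4, Nat.card_congr Multiplicative.toAdd, Nat.card_prod, Nat.card_zmod] at hkd
        have := Nat.dvd_one.1 hkd
        omega
      · have hm5 : 5 ≤ m := by
          obtain ⟨k, hk⟩ := hmo
          omega
        have h1 := S2096.result hF m hm5 hmo
        refine nball_of_dvd hp h1 e ?_
        have h4 : Nat.gcd 4 (q ^ m - 1) = 1 := (Nat.coprime_two_left.2 h5).pow_left 2
        rw [h4]
        exact one_dvd _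
  · exact Or.inl ((R.oplus p m q hp h2 hq ho).apply hg hd)

theorem main_ominus (m q : ℕ) (hg : IsNamed (.ominus m q) S) (hd : p ∣ Nat.card S) :
    NBall.{u} p S ∨ Surv p S := by
  by_cases hq : p ∣ q
  · exact Or.inl ((R.own_ominus p m q hp h2 hq).apply hg hd)
  rcases Nat.even_or_odd q with he | ho
  · left
    obtain ⟨F, _, _, a, b, hF, hab, e⟩ := hg.real
    have hm : 4 ≤ m := hg.cond.1
    have h3 : 1 ≤ q := hg.cond.2.pos
    have h5 : Odd (q ^ m + 1) := (he.pow_of_ne_zero (by omega)).add_one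
    have h1 := S2099.result hF m hm a b hab
    refine nball_of_dvd hp h1 e ?_
    have h4 : Nat.gcd 4 (q ^ m + 1) = 1 := (Nat.coprime_two_left.2 h5).pow_left 2
    rw [h4]
    exact one_dvd _
  · by_cases hex : m = 4 ∧ q = 3 ∧ p = 13
    · exact Or.inr ⟨_, hg, hex⟩
    · exact Or.inl ((R.ominus p m q hp h2 hq ho hex).apply hg hd)

theorem main_g2 (q : ℕ) (hg : IsNamed (.g2 q) S) (hd : p ∣ Nat.card S) : NBall.{u} p S ∨ Surv p S := by
  have hq3 : 3 ≤ q := hg.cond.1
  rcases Nat.lt_or_ge q 5 with h5 | h5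
  · interval_cases q
    · have h1 : p ∈ [2, 3, 7, 13] := mem_of_dvd hp _ 6 (by norm_num) (by decide +kernel) (hg.ord ▸ hd)
      simp only [List.mem_cons, List.not_mem_nil, or_false] at h1
      rcases h1 with rfl | rfl | h1
      · exact absurd rfl h2
      · left
        obtain ⟨F, _, _, hF, e⟩ := hg.real
        exact nball_of_dvd hp (S2101.result hF) e dvd_rfl
      · exact Or.inr ⟨_, hg, Or.inl ⟨rfl, h1⟩⟩
    · have h1 : p ∈ [2, 3, 5, 7, 13] := mem_of_dvd hp _ 12 (by norm_num) (by decide +kernel) (hg.ord ▸ hd)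
      simp only [List.mem_cons, List.not_mem_nil, or_false] at h1
      rcases h1 with rfl | rfl | h1
      · exact absurd rfl h2
      · exact Or.inl (R.g24.apply hg hd)
      · exact Or.inr ⟨_, hg, Or.inr ⟨rfl, h1⟩⟩
  · left
    obtain ⟨F, _, _, hF, e⟩ := hg.real
    exact nball_of_one (S2100.result (by rw [hF]; exact h5)) e

theorem main_f4 (q : ℕ) (hg : IsNamed (.f4 q) S) (hd : p ∣ Nat.card S) : NBall.{u} p S ∨ Surv p S := by
  have hq2 : 2 ≤ q := IsPrimePow.one_lt hg.cond
  rcases Nat.lt_or_ge q 3 with h3 | h3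
  · have h4 : q = 2 := by omega
    subst h4
    have h1 : p ∈ [2, 3, 5, 7, 13, 17] := mem_of_dvd hp _ 24 (by norm_num) (by decide +kernel) (hg.ord ▸ hd)
    simp only [List.mem_cons, List.not_mem_nil, or_false] at h1
    rcases h1 with rfl | rfl | h1
    · exact absurd rfl h2
    · exact Or.inl (R.f42.apply hg hd)
    · exact Or.inr ⟨_, hg, rfl, h1⟩
  · left
    obtain ⟨F, _, _, hF, e⟩ := hg.real
    exact nball_of_one (S2103.result (by rw [hF]; exact h3)) e

theorem main_e6 (q : ℕ) (hg : IsNamed (.e6 q) S) (hd : p ∣ Nat.card S) : NBall.{u} p S ∨ Surv p S := by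
  left
  by_cases h3 : 3 ∣ q - 1
  · by_cases hq : p ∣ q
    · exact (R.own_e6 p q hp h2 hq h3).apply hg hd
    · by_cases hp3 : p = 3
      · subst hp3
        obtain ⟨F, _, _, hF, e⟩ := hg.real
        exact nball_of_dvd hp (S2105.result hF) e (Nat.gcd_dvd_left _ _)
      · exact (R.e6 p q hp h2 hp3 hq h3).apply hg hd
  · obtain ⟨F, _, _, hF, e⟩ := hg.real
    refine nball_of_dvd hp (S2105.result hF) e ?_
    rw [(Nat.Prime.coprime_iff_not_dvd Nat.prime_three).2 h3]
    exact one_dvd _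

theorem main_e7 (q : ℕ) (hg : IsNamed (.e7 q) S) (hd : p ∣ Nat.card S) : NBall.{u} p S ∨ Surv p S := by
  left
  by_cases hq : p ∣ q
  · exact (R.own_e7 p q hp h2 hq).apply hg hd
  rcases Nat.even_or_odd q with he | ho
  · obtain ⟨F, _, _, hF, e⟩ := hg.real
    refine nball_of_dvd hp (S2106.result hF) e ?_
    have h3 : 1 ≤ q := IsPrimePow.pos hg.cond
    have h4 : Nat.gcd 2 (q - 1) = 1 := by
      refine Nat.coprime_two_left.2 ?_
      obtain ⟨k, hk⟩ := he
      exact ⟨k - 1, by omega⟩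
    rw [h4]
    exact one_dvd _
  · exact (R.e7 p q hp h2 hq ho).apply hg hd

theorem main_te6 (q : ℕ) (hg : IsNamed (.te6 q) S) (hd : p ∣ Nat.card S) : NBall.{u} p S ∨ Surv p S := by
  by_cases hq2 : q = 2
  · subst hq2
    have h1 : p ∈ [2, 3, 5, 7, 11, 13, 17, 19] :=
      mem_of_dvd hp _ 36 (by norm_num) (by decide +kernel) (hg.ord ▸ hd)
    simp only [List.mem_cons, List.not_mem_nil, or_false] at h1
    rcases h1 with rfl | rfl | h1
    · exact absurd rfl h2
    · exact Or.inl (R.te62.apply hg hd)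
    · exact Or.inr ⟨_, hg, rfl, h1⟩
  left
  have hqp : IsPrimePow q := hg.cond
  by_cases h3 : 3 ∣ q + 1
  · by_cases hq : p ∣ q
    · exact (R.own_te6 p q hp h2 hq h3).apply hg hd
    · by_cases hp3 : p = 3
      · subst hp3
        obtain ⟨F, _, _, hF, e⟩ := hg.real
        exact nball_of_dvd hp (S2108.result hqp hF hq2) e (Nat.gcd_dvd_left _ _)
      · exact (R.te6 p q hp h2 hp3 hq h3 hq2).apply hg hd
  · obtain ⟨F, _, _, hF, e⟩ := hg.real
    refine nball_of_dvd hp (S2108.result hqp hF hq2) e ?_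
    rw [(Nat.Prime.coprime_iff_not_dvd Nat.prime_three).2 h3]
    exact one_dvd _

omit R in
theorem main_sz (q : ℕ) (hg : IsNamed (.sz q) S) (hd : p ∣ Nat.card S) : NBall.{u} p S ∨ Surv p S := by
  obtain ⟨F, _, _, m, hm, hF, hq, e⟩ := hg.real
  rcases Nat.lt_or_ge m 2 with h | h
  · have h1 : m = 1 := by omega
    subst h1
    subst hq
    have h1 : p ∈ [2, 5, 7, 13] := mem_of_dvd hp _ 6 (by norm_num) (by decide +kernel) (hg.ord ▸ hd)
    simp only [List.mem_cons, List.not_mem_nil, or_false] at h1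
    rcases h1 with rfl | h1
    · exact absurd rfl h2
    · exact Or.inr ⟨_, hg, by norm_num, h1⟩
  · left
    exact nball_of_one (S2111.result h (hF.trans hq)) e

omit R in
theorem main_j3 (hg : IsNamed .j3 S) (hd : p ∣ Nat.card S) : NBall.{u} p S ∨ Surv p S := by
  have h1 : p ∈ [2, 3, 5, 17, 19] := mem_of_dvd hp _ 7 (by norm_num) (by decide +kernel) (hg.ord ▸ hd)
  simp only [List.mem_cons, List.not_mem_nil, or_false] at h1
  rcases h1 with rfl | rfl | h1
  · exact absurd rfl h2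
  · left
    obtain ⟨F, _, _, ω, hF, hω, e⟩ := hg.real
    exact nball_of_dvd hp (S2041.result hF ω hω) e dvd_rfl
  · exact Or.inr ⟨_, hg, h1⟩

/-- **The main case distinction.** -/
theorem main_named {g : Grp} (hg : IsNamed g S) (hd : p ∣ Nat.card S) : NBall.{u} p S ∨ Surv p S := by
  cases g with
  | alt n => exact main_alt R hp h2 n hg hd
  | psl n q => exact main_psl' R hp h2 n q hg hd
  | psp m q => exact main_psp R hp h2 m q hg hd
  | psu n q => exact main_psu R hp h2 n q hg hd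
  | oodd m q => exact main_oodd R hp h2 m q hg hd
  | oplus m q => exact main_oplus R hp h2 m q hg hd
  | ominus m q => exact main_ominus R hp h2 m q hg hd
  | g2 q => exact main_g2 R hp h2 q hg hd
  | f4 q => exact main_f4 R hp h2 q hg hd
  | e6 q => exact main_e6 R hp h2 q hg hd
  | e7 q => exact main_e7 R hp h2 q hg hd
  | e8 q =>
    obtain ⟨F, _, _, hF, e⟩ := hg.real
    exact Or.inl (nball_of_one S2107.result e)
  | te6 q => exact main_te6 R hp h2 q hg hd
  | td4 q =>
    obtain ⟨F, _, _, hF, e⟩ := hg.real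
    exact Or.inl (nball_of_one (S2110.result hg.cond hF) e)
  | sz q => exact main_sz hp h2 q hg hd
  | ree q =>
    obtain ⟨F, _, _, m, hm, hF, hq, e⟩ := hg.real
    exact Or.inl (nball_of_one (S2113.result hm (hF.trans hq)) e)
  | tf4 q =>
    obtain ⟨F, _, _, m, hm, hF, hq, e⟩ := hg.real
    exact Or.inl (nball_of_one (S2114.result hm (hF.trans hq)) e)
  | tits => exact Or.inl (nball_of_one S2115.result hg.real)
  | m11 => exact Or.inl (nball_of_one S2034.result hg.real)
  | m12 =>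
    have h1 : p ∈ [2, 3, 5, 11] := mem_of_dvd hp _ 6 (by norm_num) (by decide +kernel) (hg.ord ▸ hd)
    simp only [List.mem_cons, List.not_mem_nil, or_false] at h1
    rcases h1 with rfl | rfl | h1
    · exact absurd rfl h2
    · exact Or.inl (R.m12.apply hg hd)
    · exact Or.inr ⟨_, hg, h1⟩
  | m22 =>
    have h1 : p ∈ [2, 3, 5, 7, 11] := mem_of_dvd hp _ 7 (by norm_num) (by decide +kernel) (hg.ord ▸ hd)
    simp only [List.mem_cons, List.not_mem_nil, or_false] at h1
    rcases h1 with rfl | h1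
    · exact absurd rfl h2
    · exact Or.inr ⟨_, hg, h1⟩
  | m23 => exact Or.inl (nball_of_one S2037.result hg.real)
  | m24 => exact Or.inl (nball_of_one S2038.result hg.real)
  | j1 => exact Or.inl (nball_of_one S2039.result hg.real)
  | j2 =>
    have h1 : p ∈ [2, 3, 5, 7] := mem_of_dvd hp _ 7 (by norm_num) (by decide +kernel) (hg.ord ▸ hd)
    simp only [List.mem_cons, List.not_mem_nil, or_false] at h1
    rcases h1 with rfl | rfl | h1
    · exact absurd rfl h2
    · exact Or.inl (R.j2.apply hg hd)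
    · exact Or.inr ⟨_, hg, h1⟩
  | j3 => exact main_j3 hp h2 hg hd
  | j4 => exact Or.inl (nball_of_one S2042.result hg.real)
  | co1 =>
    have h1 : p ∈ [2, 3, 5, 7, 11, 13, 23] :=
      mem_of_dvd hp _ 21 (by norm_num) (by decide +kernel) (hg.ord ▸ hd)
    simp only [List.mem_cons, List.not_mem_nil, or_false] at h1
    rcases h1 with rfl | rfl | rfl | h1
    · exact absurd rfl h2
    · exact Or.inl (R.co1_3.apply hg hd)
    · exact Or.inl (R.co1_5.apply hg hd)
    · exact Or.inr ⟨_, hg, h1⟩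
  | co2 => exact Or.inl (nball_of_one S2044.result hg.real)
  | co3 => exact Or.inl (nball_of_one S2045.result hg.real)
  | mcl =>
    have h1 : p ∈ [2, 3, 5, 7, 11] := mem_of_dvd hp _ 7 (by norm_num) (by decide +kernel) (hg.ord ▸ hd)
    simp only [List.mem_cons, List.not_mem_nil, or_false] at h1
    rcases h1 with rfl | rfl | rfl | h1
    · exact absurd rfl h2
    · exact Or.inl (nball_of_dvd hp S2047.result hg.real dvd_rfl)
    · exact Or.inl (R.mcl.apply hg hd)
    · exact Or.inr ⟨_, hg, h1⟩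
  | hs =>
    have h1 : p ∈ [2, 3, 5, 7, 11] := mem_of_dvd hp _ 9 (by norm_num) (by decide +kernel) (hg.ord ▸ hd)
    simp only [List.mem_cons, List.not_mem_nil, or_false] at h1
    rcases h1 with rfl | rfl | rfl | h1
    · exact absurd rfl h2
    · exact Or.inr ⟨_, hg, Or.inl rfl⟩
    · exact Or.inl (R.hs.apply hg hd)
    · exact Or.inr ⟨_, hg, Or.inr h1⟩
  | suz =>
    have h1 : p ∈ [2, 3, 5, 7, 11, 13] :=
      mem_of_dvd hp _ 13 (by norm_num) (by decide +kernel) (hg.ord ▸ hd)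
    simp only [List.mem_cons, List.not_mem_nil, or_false] at h1
    rcases h1 with rfl | rfl | h1
    · exact absurd rfl h2
    · exact Or.inl (R.suz.apply hg hd)
    · exact Or.inr ⟨_, hg, h1⟩
  | he => exact Or.inl (nball_of_one S2049.result hg.real)
  | ru =>
    have h1 : p ∈ [2, 3, 5, 7, 13, 29] :=
      mem_of_dvd hp _ 14 (by norm_num) (by decide +kernel) (hg.ord ▸ hd)
    simp only [List.mem_cons, List.not_mem_nil, or_false] at h1
    rcases h1 with rfl | rfl | rfl | h1
    · exact absurd rfl h2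
    · exact Or.inl (R.ru3.apply hg hd)
    · exact Or.inl (R.ru5.apply hg hd)
    · exact Or.inr ⟨_, hg, h1⟩
  | on =>
    have h1 : p ∈ [2, 3, 5, 7, 11, 19, 31] :=
      mem_of_dvd hp _ 9 (by norm_num) (by decide +kernel) (hg.ord ▸ hd)
    simp only [List.mem_cons, List.not_mem_nil, or_false] at h1
    rcases h1 with rfl | rfl | rfl | rfl | h1
    · exact absurd rfl h2
    · exact Or.inl (nball_of_dvd hp S2052.result hg.real dvd_rfl)
    · exact Or.inr ⟨_, hg, Or.inl rfl⟩
    · exact Or.inl (R.on.apply hg hd)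
    · exact Or.inr ⟨_, hg, Or.inr h1⟩
  | ly => exact Or.inl (nball_of_one S2050.result hg.real)
  | fi22 =>
    have h1 : p ∈ [2, 3, 5, 7, 11, 13] :=
      mem_of_dvd hp _ 17 (by norm_num) (by decide +kernel) (hg.ord ▸ hd)
    simp only [List.mem_cons, List.not_mem_nil, or_false] at h1
    rcases h1 with rfl | rfl | h1
    · exact absurd rfl h2
    · exact Or.inl (R.fi22.apply hg hd)
    · exact Or.inr ⟨_, hg, h1⟩
  | fi23 => exact Or.inl (nball_of_one S2054.result hg.real)
  | fi24 =>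
    have h1 : p ∈ [2, 3, 5, 7, 11, 13, 17, 23, 29] :=
      mem_of_dvd hp _ 21 (by norm_num) (by decide +kernel) (hg.ord ▸ hd)
    simp only [List.mem_cons, List.not_mem_nil, or_false] at h1
    rcases h1 with rfl | rfl | rfl | rfl | h1
    · exact absurd rfl h2
    · exact Or.inl (nball_of_dvd hp S2055.result hg.real dvd_rfl)
    · exact Or.inr ⟨_, hg, Or.inl rfl⟩
    · exact Or.inl (R.fi24.apply hg hd)
    · exact Or.inr ⟨_, hg, Or.inr h1⟩
  | hn => exact Or.inl (nball_of_one S2056.result hg.real)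
  | th => exact Or.inl (nball_of_one S2057.result hg.real)
  | b =>
    have h1 : p ∈ [2, 3, 5, 7, 11, 13, 17, 19, 23, 31, 47] :=
      mem_of_dvd hp _ 41 (by norm_num) (by decide +kernel) (hg.ord ▸ hd)
    simp only [List.mem_cons, List.not_mem_nil, or_false] at h1
    rcases h1 with rfl | rfl | rfl | h1
    · exact absurd rfl h2
    · exact Or.inl (R.b3.apply hg hd)
    · exact Or.inl (R.b5.apply hg hd)
    · exact Or.inr ⟨_, hg, h1⟩
  | m => exact Or.inl (nball_of_one S2059.result hg.real)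

/-- **(NB)** A known simple group of order divisible by the odd prime `p` is not bad, or a survivor. -/
theorem nb_or_surv (hK : IsKnownSimple' S) (hna : ¬ ∀ a b : S, a * b = b * a) (hd : p ∣ Nat.card S) :
    NBall.{u} p S ∨ Surv p S := by
  obtain ⟨g, hg⟩ := exists_named table.{u} hK hna
  exact main_named R hp h2 hg hd

/-- **(NB1)** non-abelian Sylow `p`-subgroups: not bad. -/
theorem nball_of_not_absyl (hK : IsKnownSimple' S) (hd : p ∣ Nat.card S) (hab : ¬ AbSyl p S) : NBall.{u} p S := by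
  rcases nb_or_surv R hp h2 hK (fun h => hab fun _ _ a _ b _ => h a b) hd with h | h
  · exact h
  · exact absurd (absyl_of_surv hp h2 h) hab

/-- **(KILL)** every known simple group of order divisible by the odd prime `p`. -/
theorem kill_all (R' : RowsKill.{u}) (hK : IsKnownSimple' S) (hna : ¬ ∀ a b : S, a * b = b * a)
    (hd : p ∣ Nat.card S) : Kill.{u} p S := by
  rcases nb_or_surv R hp h2 hK hna hd with h | h
  · exact Or.inl h
  · exact kill_of_surv R' hp h2 h

end Cfsg.Agent.H325.RIM
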