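import Cfsg.Agent.H325.RIM.RowsOf
import Cfsg.Agent.H810.RIM.BRow

/-!
# S4816: the row of the Baby Monster at 5 (helper325); imports S0000

* `f_b5`, `f_b3_of`, `rowsNB_of3`.
-/

set_option autoImplicit false

namespace Cfsg.Agent.H325.RIM

open Cfsg Cfsg.Agent.H665.RIM Cfsg.Agent.OrdDiv Cfsg.Agent.H436

theorem f_b5 : NBRow 5 .b := fun _ _ _ hS _ => H810.RIM.BRow.nball_five hS.real

/-- (B, 3) from an element of order 27 with the centralizer of order 27 -/
theorem f_b3_of (h : ∀ (S : Type) [Group S] [Finite S], Spor.IsoB S →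
    ∃ x : S, orderOf x = 27 ∧ Nat.card (Subgroup.centralizer ({x} : Set S)) = 27) : NBRow 3 .b :=
  fun S _ _ hS _ => H810.RIM.BRow.nball_three hS.real (h S hS.real)

theorem rowsNB_of3 (b3 : NBRow 3 .b) : RowsNB := rowsNB_of b3 f_b5

end Cfsg.Agent.H325.RIM
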